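import Groth.Agent.DerLib.KInjDerived
import Mathlib.CategoryTheory.Localization.Adjunction

/-!
# Maps into a direct image, compared along exact embeddings
-/

set_option autoImplicit false
set_option maxHeartbeats 1000000
set_option backward.isDefEq.respectTransparency false
set_option backward.defeqAttrib.useBackward true

universe w₁ w₂ w₃ w₄ v₁ v₂ v₃ v₄ u₁ u₂ u₃ u₄

open CategoryTheory CategoryTheory.Limits HomologicalComplex

namespace Groth.Agent.DQCohEquivLib

open DerLib.KInjDerived (mapHomologicalComplexAdj)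

section AdjQ

variable {A : Type u₁} [Category.{v₁} A] [Abelian A] [HasDerivedCategory.{w₁} A]
  {B : Type u₂} [Category.{v₂} B] [Abelian B] [HasDerivedCategory.{w₂} B]

/-- The comparison `R ⟶ RR` on complexes. -/
noncomputable def unitQ (R : A ⥤ B) [R.Additive] (RR : DerivedCategory A ⥤ DerivedCategory B)
    (β : R.mapHomotopyCategory (ComplexShape.up ℤ) ⋙ DerivedCategory.Qh ⟶ DerivedCategory.Qh ⋙ RR)
    (M : CochainComplex A ℤ) :
    DerivedCategory.Q.obj ((R.mapHomologicalComplex (ComplexShape.up ℤ)).obj M) ⟶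
      RR.obj (DerivedCategory.Q.obj M) :=
  (DerivedCategory.quotientCompQhIso B).inv.app _ ≫
    β.app ((HomotopyCategory.quotient A (ComplexShape.up ℤ)).obj M) ≫
      RR.map ((DerivedCategory.quotientCompQhIso A).hom.app M)

theorem isIso_unitQ (R : A ⥤ B) [R.Additive] (RR : DerivedCategory A ⥤ DerivedCategory B)
    (β : R.mapHomotopyCategory (ComplexShape.up ℤ) ⋙ DerivedCategory.Qh ⟶ DerivedCategory.Qh ⋙ RR)
    (M : CochainComplex A ℤ) (h : IsIso (β.app ((HomotopyCategory.quotient A (ComplexShape.up ℤ)).obj M))) :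
    IsIso (unitQ R RR β M) :=
  IsIso.comp_isIso' inferInstance (IsIso.comp_isIso' h inferInstance)

variable {G : B ⥤ A} {R : A ⥤ B} (adj : G ⊣ R) [G.Additive] [R.Additive]
  [PreservesFiniteLimits G] [PreservesFiniteColimits G]
  (RR : DerivedCategory A ⥤ DerivedCategory B)
  (β : R.mapHomotopyCategory (ComplexShape.up ℤ) ⋙ DerivedCategory.Qh ⟶ DerivedCategory.Qh ⋙ RR)
  [RR.IsRightDerivedFunctor β (HomotopyCategory.quasiIso A (ComplexShape.up ℤ))]

/-- The counit of the derived adjunction on complexes. -/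
theorem counit_unitQ (hA : DerLib.KInjDerived.EnoughKInj A) (M : CochainComplex A ℤ) :
    G.mapDerivedCategory.map (unitQ R RR β M) ≫
        (DerLib.KInjDerived.derivedAdj adj RR β hA).counit.app (DerivedCategory.Q.obj M) =
      G.mapDerivedCategoryFactors.hom.app _ ≫
        DerivedCategory.Q.map ((mapHomologicalComplexAdj adj (ComplexShape.up ℤ)).counit.app M) := by
  haveI := DerLib.KInjDerived.isRightDerived_comp (G := G) RR β hA
  let D := DerLib.KInjDerived.derivedAdj adj RR β hA
  let N := (HomotopyCategory.quotient A (ComplexShape.up ℤ)).obj M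
  have key : G.mapDerivedCategory.map (β.app N) ≫ D.counit.app (DerivedCategory.Qh.obj N) =
      G.mapDerivedCategoryFactorsh.hom.app ((R.mapHomotopyCategory (ComplexShape.up ℤ)).obj N) ≫
        DerivedCategory.Qh.map ((DerLib.KInjDerived.mapHomotopyCategoryAdj adj (ComplexShape.up ℤ)).counit.app N) :=
    (DerLib.KInjDerived.mapHomotopyCategoryAdj adj (ComplexShape.up ℤ)).derivedε_fac_app
      (HomotopyCategory.quasiIso A (ComplexShape.up ℤ)) G.mapDerivedCategoryFactorsh.hom β N
  have hn := D.counit.naturality ((DerivedCategory.quotientCompQhIso A).hom.app M)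
  simp only [Functor.comp_map, Functor.id_map] at hn
  simp only [unitQ, Functor.map_comp, Category.assoc]
  rw [hn]
  refine (congrArg (_ ≫ ·) ((Category.assoc _ _ _).symm.trans (congrArg (· ≫ _) key))).trans ?_
  let W := ((mapHomologicalComplexAdj adj (ComplexShape.up ℤ)).counit.app M)
  have h2 : G.mapDerivedCategoryFactorsh.hom.app ((R.mapHomotopyCategory (ComplexShape.up ℤ)).obj N) =
      G.mapDerivedCategory.map ((DerivedCategory.quotientCompQhIso B).hom.app _) ≫
        G.mapDerivedCategoryFactors.hom.app ((R.mapHomologicalComplex (ComplexShape.up ℤ)).obj M) ≫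
          (DerivedCategory.quotientCompQhIso A).inv.app _ :=
    (Functor.mapDerivedCategoryFactorsh_hom_app G ((R.mapHomologicalComplex (ComplexShape.up ℤ)).obj M)).trans
      (congrArg (_ ≫ ·) (congrArg (_ ≫ ·) ((congrArg (_ ≫ ·) (DerivedCategory.Qh.map_id _)).trans
        (Category.comp_id _))))
  rw [h2]
  have h3 := (DerivedCategory.quotientCompQhIso A).inv.naturality W
  simp only [Category.assoc]
  rw [← Functor.map_comp_assoc, Iso.inv_hom_id_app, CategoryTheory.Functor.map_id, Category.id_comp]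
  refine congrArg (_ ≫ ·) ?_
  refine (Category.assoc _ _ _).symm.trans ((congrArg (· ≫ _) h3.symm).trans ?_)
  exact (Category.assoc _ _ _).trans ((congrArg (_ ≫ ·) (Iso.inv_hom_id_app _ _)).trans (Category.comp_id _))

end AdjQ

section Square

variable {A₁ : Type u₁} [Category.{v₁} A₁] [Abelian A₁] [HasDerivedCategory.{w₁} A₁]
  {A₂ : Type u₂} [Category.{v₂} A₂] [Abelian A₂] [HasDerivedCategory.{w₂} A₂]
  {A₃ : Type u₃} [Category.{v₃} A₃] [Abelian A₃] [HasDerivedCategory.{w₃} A₃]
  {A₄ : Type u₄} [Category.{v₄} A₄] [Abelian A₄] [HasDerivedCategory.{w₄} A₄]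
  {F : A₁ ⥤ A₂} {G : A₂ ⥤ A₄} {F' : A₁ ⥤ A₃} {G' : A₃ ⥤ A₄}
  [F.Additive] [G.Additive] [F'.Additive] [G'.Additive]
  [PreservesFiniteLimits F] [PreservesFiniteColimits F] [PreservesFiniteLimits G] [PreservesFiniteColimits G]
  [PreservesFiniteLimits F'] [PreservesFiniteColimits F'] [PreservesFiniteLimits G'] [PreservesFiniteColimits G']

/-- A commutative square of functors commutes on complexes. -/
noncomputable def squareC (e : F ⋙ G ≅ F' ⋙ G') :
    F.mapHomologicalComplex (ComplexShape.up ℤ) ⋙ G.mapHomologicalComplex (ComplexShape.up ℤ) ≅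
      F'.mapHomologicalComplex (ComplexShape.up ℤ) ⋙ G'.mapHomologicalComplex (ComplexShape.up ℤ) :=
  NatIso.ofComponents (fun M => HomologicalComplex.Hom.isoOfComponents (fun i => e.app (M.X i))
      fun i j _ => (e.hom.naturality (M.d i j)).symm)
    fun φ => HomologicalComplex.hom_ext _ _ fun i => e.hom.naturality (φ.f i)

/-- A commutative square of exact functors commutes on derived categories. -/
theorem exists_squareD (e : F ⋙ G ≅ F' ⋙ G') :
    ∃ eD : F.mapDerivedCategory ⋙ G.mapDerivedCategory ≅ F'.mapDerivedCategory ⋙ G'.mapDerivedCategory,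
      ∀ M : CochainComplex A₁ ℤ, eD.hom.app (DerivedCategory.Q.obj M) =
        G.mapDerivedCategory.map (F.mapDerivedCategoryFactors.hom.app M) ≫
          G.mapDerivedCategoryFactors.hom.app _ ≫
          DerivedCategory.Q.map ((squareC e).hom.app M) ≫
          G'.mapDerivedCategoryFactors.inv.app _ ≫
          G'.mapDerivedCategory.map (F'.mapDerivedCategoryFactors.inv.app M) := by
  let c := ComplexShape.up ℤ
  let e₀ : F.mapHomologicalComplex c ⋙ (G.mapHomologicalComplex c ⋙ DerivedCategory.Q) ≅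
      F'.mapHomologicalComplex c ⋙ (G'.mapHomologicalComplex c ⋙ DerivedCategory.Q) :=
    (Functor.associator _ _ _).symm ≪≫ Functor.isoWhiskerRight (squareC e) DerivedCategory.Q ≪≫ Functor.associator _ _ _
  let ε : DerivedCategory.Q ⋙ F.mapDerivedCategory ⋙ G.mapDerivedCategory ≅
      DerivedCategory.Q ⋙ F'.mapDerivedCategory ⋙ G'.mapDerivedCategory :=
    Functor.isoWhiskerRight F.mapDerivedCategoryFactors G.mapDerivedCategory ≪≫
      Functor.isoWhiskerLeft (F.mapHomologicalComplex c) G.mapDerivedCategoryFactors ≪≫ e₀ ≪≫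
      (Functor.isoWhiskerLeft (F'.mapHomologicalComplex c) G'.mapDerivedCategoryFactors).symm ≪≫
      (Functor.isoWhiskerRight F'.mapDerivedCategoryFactors G'.mapDerivedCategory).symm
  letI : Localization.Lifting DerivedCategory.Q (HomologicalComplex.quasiIso A₁ c)
      (DerivedCategory.Q ⋙ F.mapDerivedCategory ⋙ G.mapDerivedCategory)
      (F.mapDerivedCategory ⋙ G.mapDerivedCategory) := ⟨Iso.refl _⟩
  letI : Localization.Lifting DerivedCategory.Q (HomologicalComplex.quasiIso A₁ c)
      (DerivedCategory.Q ⋙ F'.mapDerivedCategory ⋙ G'.mapDerivedCategory)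
      (F'.mapDerivedCategory ⋙ G'.mapDerivedCategory) := ⟨Iso.refl _⟩
  refine ⟨Localization.liftNatIso DerivedCategory.Q (HomologicalComplex.quasiIso A₁ c) _ _ _ _ ε, fun M => ?_⟩
  refine (Localization.liftNatTrans_app ..).trans ?_
  simp [ε, e₀, Localization.Lifting.iso]
  exact congrArg (_ ≫ ·) (congrArg (_ ≫ ·) (Category.id_comp _))

end Square

section Key

variable {MX : Type u₁} [Category.{v₁} MX] [Abelian MX] [HasDerivedCategory.{w₁} MX]
  {MU : Type u₂} [Category.{v₂} MU] [Abelian MU] [HasDerivedCategory.{w₂} MU]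
  {QX : Type u₃} [Category.{v₃} QX] [Abelian QX] [HasDerivedCategory.{w₃} QX]
  {QU : Type u₄} [Category.{v₄} QU] [Abelian QU] [HasDerivedCategory.{w₄} QU]
  {iX : QX ⥤ MX} {iU : QU ⥤ MU} {g : MX ⥤ MU} {p : MU ⥤ MX} {g' : QX ⥤ QU} {p' : QU ⥤ QX}
  [iX.Additive] [iU.Additive] [g.Additive] [p.Additive] [g'.Additive] [p'.Additive]
  [PreservesFiniteLimits iX] [PreservesFiniteColimits iX] [PreservesFiniteLimits iU] [PreservesFiniteColimits iU]
  [PreservesFiniteLimits g] [PreservesFiniteColimits g]
  [PreservesFiniteLimits g'] [PreservesFiniteColimits g']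

/-- `Dι(Q(p' C)) ≅ R p (Dι (Q C))` and the induced bijection on maps. -/
theorem exists_push_core (adj : g ⊣ p) (adj' : g' ⊣ p') (e : g' ⋙ iU ≅ iX ⋙ g) (e' : p' ⋙ iX ≅ iU ⋙ p)
    (compat : ∀ M : QU, g.map (e'.hom.app M) ≫ adj.counit.app (iU.obj M) =
      e.inv.app (p'.obj M) ≫ iU.map (adj'.counit.app M))
    (RR : DerivedCategory MU ⥤ DerivedCategory MX)
    (β : p.mapHomotopyCategory (ComplexShape.up ℤ) ⋙ DerivedCategory.Qh ⟶ DerivedCategory.Qh ⋙ RR)
    [RR.IsRightDerivedFunctor β (HomotopyCategory.quasiIso MU (ComplexShape.up ℤ))]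
    (hA : DerLib.KInjDerived.EnoughKInj MU)
    (C : CochainComplex QU ℤ) (hβ : IsIso (β.app ((HomotopyCategory.quotient MU (ComplexShape.up ℤ)).obj
      ((iU.mapHomologicalComplex (ComplexShape.up ℤ)).obj C))))
    (hε' : ∀ A : DerivedCategory QX, Function.Bijective
      fun φ : A ⟶ DerivedCategory.Q.obj ((p'.mapHomologicalComplex (ComplexShape.up ℤ)).obj C) =>
        g'.mapDerivedCategory.map φ ≫ g'.mapDerivedCategoryFactors.hom.app _ ≫
          DerivedCategory.Q.map ((mapHomologicalComplexAdj adj' (ComplexShape.up ℤ)).counit.app C))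
    [iU.mapDerivedCategory.Full] [iU.mapDerivedCategory.Faithful] :
    ∃ G : DerivedCategory QX,
      Nonempty (iX.mapDerivedCategory.obj G ≅ RR.obj (iU.mapDerivedCategory.obj (DerivedCategory.Q.obj C))) ∧
      ∀ A : DerivedCategory QX, Function.Bijective fun φ : A ⟶ G => iX.mapDerivedCategory.map φ := by
  let c := ComplexShape.up ℤ
  let G := DerivedCategory.Q.obj ((p'.mapHomologicalComplex c).obj C)
  let M := (iU.mapHomologicalComplex c).obj C
  haveI := isIso_unitQ p RR β M hβ
  let θ : iX.mapDerivedCategory.obj G ≅ RR.obj (iU.mapDerivedCategory.obj (DerivedCategory.Q.obj C)) :=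
    iX.mapDerivedCategoryFactors.app _ ≪≫
      DerivedCategory.Q.mapIso ((squareC e').app C) ≪≫
      @asIso _ _ _ _ (unitQ p RR β M) inferInstance ≪≫
      RR.mapIso (iU.mapDerivedCategoryFactors.symm.app C)
  refine ⟨G, ⟨θ⟩, fun A => ?_⟩
  let D := DerLib.KInjDerived.derivedAdj adj RR β hA
  obtain ⟨eD, heD⟩ := exists_squareD e
  let ε' : g'.mapDerivedCategory.obj G ⟶ DerivedCategory.Q.obj C :=
    g'.mapDerivedCategoryFactors.hom.app _ ≫
      DerivedCategory.Q.map ((mapHomologicalComplexAdj adj' c).counit.app C)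
  have hθ : g.mapDerivedCategory.map θ.hom ≫ D.counit.app _ =
      eD.inv.app G ≫ iU.mapDerivedCategory.map ε' := by
    rw [← cancel_epi (eD.hom.app G), Iso.hom_inv_id_app_assoc, heD]
    have hn : g.mapDerivedCategory.map (RR.map (iU.mapDerivedCategoryFactors.inv.app C)) ≫
        D.counit.app (iU.mapDerivedCategory.obj (DerivedCategory.Q.obj C)) =
        D.counit.app (DerivedCategory.Q.obj M) ≫ iU.mapDerivedCategoryFactors.inv.app C :=
      D.counit.naturality (iU.mapDerivedCategoryFactors.inv.app C)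
    have hn2 := g.mapDerivedCategoryFactors_hom_naturality
      ((squareC e').hom.app C)
    have hw := iU.mapDerivedCategoryFactors_hom_naturality
      ((mapHomologicalComplexAdj adj' c).counit.app C)
    have hc : (squareC e).hom.app ((p'.mapHomologicalComplex c).obj C) ≫
        (g.mapHomologicalComplex c).map ((squareC e').hom.app C) ≫
          (mapHomologicalComplexAdj adj c).counit.app M =
        (iU.mapHomologicalComplex c).map ((mapHomologicalComplexAdj adj' c).counit.app C) := by
      ext i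
      change e.hom.app (p'.obj (C.X i)) ≫ g.map (e'.hom.app (C.X i)) ≫ adj.counit.app (iU.obj (C.X i)) =
        iU.map (adj'.counit.app (C.X i))
      rw [compat, Iso.hom_inv_id_app_assoc]
    simp only [θ, ε', Iso.trans_hom, Iso.app_hom, Functor.mapIso_hom, asIso_hom, Functor.map_comp,
      Iso.symm_hom, Category.assoc]
    rw [hn, reassoc_of% (counit_unitQ adj RR β hA M), ← Functor.map_comp_assoc, Iso.inv_hom_id_app]
    refine congrArg (_ ≫ ·) ?_
    rw [← cancel_mono (iU.mapDerivedCategoryFactors.hom.app C)]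
    refine Eq.trans ?_ hw.symm
    simp only [Category.assoc, CategoryTheory.Functor.map_id, Category.id_comp]
    refine congrArg (_ ≫ ·) ?_
    rw [reassoc_of% hn2]
    refine Eq.trans ?_ ((DerivedCategory.Q.map_comp _ _).symm.trans (congrArg DerivedCategory.Q.map hc))
    refine congrArg (_ ≫ ·) ?_
    refine Eq.trans ?_ (DerivedCategory.Q.map_comp _ _).symm
    erw [g.mapDerivedCategory.map_id, Category.id_comp, Iso.inv_hom_id_app_assoc]
    exact congrArg (_ ≫ ·) ((congrArg (_ ≫ ·) (iU.mapDerivedCategoryFactors.inv_hom_id_app C)).trans (Category.comp_id _))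
  let q := iX.mapDerivedCategory
  have hmain : (fun φ : A ⟶ G => ((D.homEquiv _ _).symm (q.map φ ≫ θ.hom))) =
      fun φ : A ⟶ G => eD.inv.app A ≫ iU.mapDerivedCategory.map (g'.mapDerivedCategory.map φ ≫ ε') := by
    funext φ
    rw [Adjunction.homEquiv_counit, Functor.map_comp, Category.assoc]
    refine (congrArg (_ ≫ ·) hθ).trans ?_
    refine Eq.trans ?_ (congrArg (eD.inv.app A ≫ ·) (iU.mapDerivedCategory.map_comp _ ε').symm)
    exact (Category.assoc _ _ _).symm.trans
      ((congrArg (· ≫ _) (eD.inv.naturality φ)).trans (Category.assoc _ _ _))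
  have hb : Function.Bijective fun φ : A ⟶ G => ((D.homEquiv _ _).symm (q.map φ ≫ θ.hom)) := by
    rw [hmain]
    exact (Iso.homFromEquiv ((eD.app A))).bijective.comp
      ((Functor.FullyFaithful.ofFullyFaithful iU.mapDerivedCategory).homEquiv.bijective.comp (hε' A))
  refine ⟨fun a b hab => hb.1 (congrArg (fun z => (D.homEquiv _ _).symm (z ≫ θ.hom)) hab), fun ψ => ?_⟩
  obtain ⟨φ, hφ⟩ := hb.2 ((D.homEquiv _ _).symm (ψ ≫ θ.hom))
  exact ⟨φ, (cancel_mono θ.hom).1 ((D.homEquiv _ _).symm.injective hφ)⟩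

variable [PreservesFiniteLimits p'] [PreservesFiniteColimits p']

/-- `Dι(p'_D B) ≅ R p (Dι B)` and the induced bijection on maps. -/
theorem exists_push (adj : g ⊣ p) (adj' : g' ⊣ p') (e : g' ⋙ iU ≅ iX ⋙ g) (e' : p' ⋙ iX ≅ iU ⋙ p)
    (compat : ∀ M : QU, g.map (e'.hom.app M) ≫ adj.counit.app (iU.obj M) =
      e.inv.app (p'.obj M) ≫ iU.map (adj'.counit.app M))
    (RR : DerivedCategory MU ⥤ DerivedCategory MX)
    (β : p.mapHomotopyCategory (ComplexShape.up ℤ) ⋙ DerivedCategory.Qh ⟶ DerivedCategory.Qh ⋙ RR)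
    [RR.IsRightDerivedFunctor β (HomotopyCategory.quasiIso MU (ComplexShape.up ℤ))]
    (hA : DerLib.KInjDerived.EnoughKInj MU)
    (hβ : ∀ C : CochainComplex QU ℤ, IsIso (β.app ((HomotopyCategory.quotient MU (ComplexShape.up ℤ)).obj
      ((iU.mapHomologicalComplex (ComplexShape.up ℤ)).obj C))))
    [iU.mapDerivedCategory.Full] [iU.mapDerivedCategory.Faithful]
    (B : DerivedCategory QU) :
    ∃ G : DerivedCategory QX, Nonempty (iX.mapDerivedCategory.obj G ≅ RR.obj (iU.mapDerivedCategory.obj B)) ∧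
      ∀ A : DerivedCategory QX, Function.Bijective fun φ : A ⟶ G => iX.mapDerivedCategory.map φ := by
  let c := ComplexShape.up ℤ
  let C := DerivedCategory.Q.objPreimage B
  let eB : DerivedCategory.Q.obj C ≅ B := DerivedCategory.Q.objObjPreimageIso B
  let G := DerivedCategory.Q.obj ((p'.mapHomologicalComplex c).obj C)
  let ε' : g'.mapDerivedCategory.obj G ⟶ DerivedCategory.Q.obj C :=
    g'.mapDerivedCategoryFactors.hom.app _ ≫
      DerivedCategory.Q.map ((mapHomologicalComplexAdj adj' c).counit.app C)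
  letI : CatCommSq (g'.mapHomologicalComplex c) DerivedCategory.Q DerivedCategory.Q g'.mapDerivedCategory :=
    ⟨g'.mapDerivedCategoryFactors.symm⟩
  letI : CatCommSq (p'.mapHomologicalComplex c) DerivedCategory.Q DerivedCategory.Q p'.mapDerivedCategory :=
    ⟨p'.mapDerivedCategoryFactors.symm⟩
  let D' := (mapHomologicalComplexAdj adj' c).localization DerivedCategory.Q
    (HomologicalComplex.quasiIso _ _) DerivedCategory.Q (HomologicalComplex.quasiIso _ _)
    g'.mapDerivedCategory p'.mapDerivedCategory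
  have hε' : ∀ A : DerivedCategory QX, Function.Bijective fun φ : A ⟶ G => g'.mapDerivedCategory.map φ ≫ ε' := fun A => by
    let u : G ≅ p'.mapDerivedCategory.obj (DerivedCategory.Q.obj C) :=
      (p'.mapDerivedCategoryFactors.app C).symm
    have h : (fun φ : A ⟶ G => g'.mapDerivedCategory.map φ ≫ ε') =
        fun φ => (D'.homEquiv A _).symm (φ ≫ u.hom) := funext fun φ => by
      rw [Adjunction.homEquiv_counit, Functor.map_comp, Category.assoc]
      refine congrArg (_ ≫ ·) ?_
      refine Eq.trans ?_ (congrArg (g'.mapDerivedCategory.map u.hom ≫ ·)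
        (Adjunction.Localization.η_app (mapHomologicalComplexAdj adj' c) DerivedCategory.Q DerivedCategory.Q
          (HomologicalComplex.quasiIso _ _) g'.mapDerivedCategory p'.mapDerivedCategory C)).symm
      exact ((Category.assoc _ _ _).symm.trans ((congrArg (· ≫ _) ((g'.mapDerivedCategory.map_comp _ _).symm.trans
        ((congrArg g'.mapDerivedCategory.map (p'.mapDerivedCategoryFactors.inv_hom_id_app C)).trans
          (g'.mapDerivedCategory.map_id _)))).trans (Category.id_comp _))).symm
    rw [h]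
    exact ((D'.homEquiv A _).symm.bijective).comp (Iso.homToEquiv u).bijective
  obtain ⟨G₀, ⟨θ⟩, hG⟩ := exists_push_core adj adj' e e' compat RR β hA C (hβ C) hε'
  exact ⟨G₀, ⟨θ ≪≫ RR.mapIso (iU.mapDerivedCategory.mapIso eB)⟩, hG⟩

end Key

end Groth.Agent.DQCohEquivLib
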