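import Groth.Agent.DQCohEquivLib.Abstract
import Groth.Agent.DCohRestrLib.Comp
import Mathlib.Algebra.Homology.DerivedCategory.KInjective

/-!
# Maps into the image of a K-injective complex under a right adjoint
-/

set_option autoImplicit false
set_option linter.style.haveILetI false
set_option backward.isDefEq.respectTransparency false
set_option backward.isDefEq.respectTransparency.types false
set_option maxHeartbeats 1000000

universe w₁ w₂ v₁ v₂ u₁ u₂

open CategoryTheory CategoryTheory.Limits HomologicalComplex

namespace Groth.Agent.DQCohEquivLib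

open DerLib.KInjDerived (mapHomologicalComplexAdj)

variable {A : Type u₁} [Category.{v₁} A] [Abelian A] [HasDerivedCategory.{w₁} A]
  {B : Type u₂} [Category.{v₂} B] [Abelian B] [HasDerivedCategory.{w₂} B]

theorem Q_map_surjective (K L : CochainComplex A ℤ) [L.IsKInjective]
    (φ : DerivedCategory.Q.obj K ⟶ DerivedCategory.Q.obj L) : ∃ h : K ⟶ L, DerivedCategory.Q.map h = φ := by
  let e := DerivedCategory.quotientCompQhIso A
  obtain ⟨k, hk⟩ := (CochainComplex.IsKInjective.Qh_map_bijective _ L).2 (e.hom.app K ≫ φ ≫ e.inv.app L)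
  obtain ⟨h, rfl⟩ := (HomotopyCategory.quotient A (ComplexShape.up ℤ)).map_surjective k
  refine ⟨h, (cancel_epi (e.hom.app K)).1 ?_⟩
  refine (e.hom.naturality h).symm.trans ?_
  refine (congrArg (· ≫ e.hom.app L) hk).trans ?_
  simp

theorem quotient_map_eq_of_Q_map_eq {K L : CochainComplex A ℤ} [L.IsKInjective] {a b : K ⟶ L}
    (h : DerivedCategory.Q.map a = DerivedCategory.Q.map b) :
    (HomotopyCategory.quotient A (ComplexShape.up ℤ)).map a =
      (HomotopyCategory.quotient A (ComplexShape.up ℤ)).map b := by
  let e := DerivedCategory.quotientCompQhIso A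
  refine (CochainComplex.IsKInjective.Qh_map_bijective _ L).1 ((cancel_mono (e.hom.app L)).1 ?_)
  exact (e.hom.naturality a).trans ((congrArg (e.hom.app K ≫ ·) h).trans (e.hom.naturality b).symm)

variable {G : B ⥤ A} {R : A ⥤ B} (adj : G ⊣ R) [G.Additive] [R.Additive]
  [PreservesFiniteLimits G] [PreservesFiniteColimits G]

/-- Maps into `Q (R C)` for a K-injective complex `C`. -/
theorem bijective_counit (C : CochainComplex A ℤ) [C.IsKInjective] (Z : DerivedCategory B) :
    Function.Bijective fun φ : Z ⟶ DerivedCategory.Q.obj ((R.mapHomologicalComplex (ComplexShape.up ℤ)).obj C) =>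
      G.mapDerivedCategory.map φ ≫ G.mapDerivedCategoryFactors.hom.app _ ≫
        DerivedCategory.Q.map ((mapHomologicalComplexAdj adj (ComplexShape.up ℤ)).counit.app C) := by
  let c := ComplexShape.up ℤ
  let a := mapHomologicalComplexAdj adj c
  let RC := (R.mapHomologicalComplex c).obj C
  haveI : CochainComplex.IsKInjective RC := DCohRestrLib.isKInjective_map adj C
  let K := DerivedCategory.Q.objPreimage Z
  let e := DerivedCategory.Q.objObjPreimageIso Z
  have key : ∀ h : K ⟶ RC, G.mapDerivedCategory.map (DerivedCategory.Q.map h) ≫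
      G.mapDerivedCategoryFactors.hom.app _ ≫ DerivedCategory.Q.map (a.counit.app C) =
        G.mapDerivedCategoryFactors.hom.app K ≫ DerivedCategory.Q.map ((a.homEquiv K C).symm h) := fun h => by
    rw [← Category.assoc]
    refine (congrArg (· ≫ _) (G.mapDerivedCategoryFactors.hom.naturality h)).trans ?_
    rw [Adjunction.homEquiv_counit, Functor.map_comp]
    exact Category.assoc _ _ _
  refine ⟨fun φ₁ φ₂ h => ?_, fun ψ => ?_⟩
  · obtain ⟨h₁, e₁⟩ := Q_map_surjective K RC (e.hom ≫ φ₁)
    obtain ⟨h₂, e₂⟩ := Q_map_surjective K RC (e.hom ≫ φ₂)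
    rw [← cancel_epi e.hom, ← e₁, ← e₂]
    have h' := congrArg (G.mapDerivedCategory.map e.hom ≫ ·) h
    simp only [← Category.assoc, ← Functor.map_comp] at h'
    rw [← e₁, ← e₂] at h'
    simp only [Category.assoc] at h'
    rw [key, key, cancel_epi] at h'
    have hq := congrArg ((R.mapHomotopyCategory c).map) (quotient_map_eq_of_Q_map_eq h')
    change (HomotopyCategory.quotient B c).map ((R.mapHomologicalComplex c).map _) =
      (HomotopyCategory.quotient B c).map ((R.mapHomologicalComplex c).map _) at hq
    have hk : (HomotopyCategory.quotient B c).map h₁ = (HomotopyCategory.quotient B c).map h₂ := by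
      rw [← (a.homEquiv K C).apply_symm_apply h₁, ← (a.homEquiv K C).apply_symm_apply h₂,
        Adjunction.homEquiv_unit, Adjunction.homEquiv_unit]
      exact ((HomotopyCategory.quotient B c).map_comp _ _).trans ((congrArg (_ ≫ ·) hq).trans
        ((HomotopyCategory.quotient B c).map_comp _ _).symm)
    refine (cancel_epi ((DerivedCategory.quotientCompQhIso B).hom.app K)).1 ?_
    exact ((DerivedCategory.quotientCompQhIso B).hom.naturality h₁).symm.trans
      ((congrArg (· ≫ _) (congrArg DerivedCategory.Qh.map hk)).trans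
        ((DerivedCategory.quotientCompQhIso B).hom.naturality h₂))
  · obtain ⟨k, hk⟩ := Q_map_surjective ((G.mapHomologicalComplex c).obj K) C
      (G.mapDerivedCategoryFactors.inv.app K ≫ G.mapDerivedCategory.map e.hom ≫ ψ)
    refine ⟨e.inv ≫ DerivedCategory.Q.map (a.homEquiv K C k), ?_⟩
    change G.mapDerivedCategory.map _ ≫ _ = ψ
    rw [Functor.map_comp, Category.assoc, key, Equiv.symm_apply_apply, hk, Iso.hom_inv_id_app_assoc,
      ← Category.assoc, ← Functor.map_comp, Iso.inv_hom_id, CategoryTheory.Functor.map_id, Category.id_comp]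

end Groth.Agent.DQCohEquivLib
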