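import Groth.Agent.DQCohEquivLib.Abstract
import Groth.Agent.ExactHpLib.QCat
import Groth.Agent.IndCohLib.ModelChange
import Groth.Agent.KoszOrthLib.Aff
import Groth.Agent.QRlimLib.AcyclicPush
import Groth.Agent.TildeDerLib.Push
import Groth.Agent.TwistAffLib.Main
import Groth.Agent.DerLib.KInjTriangulated
import Mathlib.CategoryTheory.Adjunction.FullyFaithful

/-!
# `D(QCoh(X)) ≅ D_QCoh(X)` for affine diagonal
-/

set_option autoImplicit false
set_option linter.style.haveILetI false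
set_option backward.isDefEq.respectTransparency false
set_option backward.isDefEq.respectTransparency.types false
set_option maxHeartbeats 1000000

universe u

open CategoryTheory CategoryTheory.Limits AlgebraicGeometry CategoryTheory.Pretriangulated
open scoped ZeroObject

attribute [local instance] HasDerivedCategory.standard

namespace Groth.Agent.DQCohEquivLib

open ExactHpLib

/-- Quasi-coherent modules. -/
abbrev QC (X : Scheme.{u}) : ObjectProperty X.Modules := fun M => Coh.IsQCoh M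

instance containsZero_QC (X : Scheme.{u}) : (QC X).ContainsZero := ExactHpLib.containsZero X
instance closedKer_QC (X : Scheme.{u}) : (QC X).IsClosedUnderKernels := ExactHpLib.closedKer X
instance closedCoker_QC (X : Scheme.{u}) : (QC X).IsClosedUnderCokernels := ExactHpLib.closedCoker X
instance closedFin_QC (X : Scheme.{u}) : (QC X).IsClosedUnderFiniteProducts := ExactHpLib.closedFin X
instance finLim_QC (X : Scheme.{u}) : PreservesFiniteLimits (QC X).ι := (ExactHpLib.exact_ι X).1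
instance finColim_QC (X : Scheme.{u}) : PreservesFiniteColimits (QC X).ι := (ExactHpLib.exact_ι X).2

section Exact

variable {A B C : Type (u + 1)} [Category.{u} A] [Category.{u} B] [Category.{u} C] [Abelian A] [Abelian B] [Abelian C]
  (F : A ⥤ B) (G : B ⥤ C) [F.Additive] [G.Additive] [G.Full] [G.Faithful] [PreservesFiniteLimits G]
  [PreservesFiniteColimits G]

/-- A functor into an exact full subcategory is exact if the composite preserves short exact sequences. -/
theorem exact_of_comp (h : ∀ S : ShortComplex A, S.ShortExact → ((S.map F).map G).ShortExact) :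
    PreservesFiniteLimits F ∧ PreservesFiniteColimits F := by
  have key : ∀ S : ShortComplex A, S.ShortExact → (S.map F).ShortExact := fun S hS =>
    CategoryTheory.ShortExact.reflects_shortExact_of_faithful G (h S hS)
  exact (F.exact_tfae.out 0 3 rfl rfl).1 key

end Exact

section Affine

variable {U : Scheme.{u}} [IsAffine U]

/-- On an affine scheme the derived category of quasi-coherent modules embeds. -/
theorem exists_affine : (QC U).ι.mapDerivedCategory.Full ∧ (QC U).ι.mapDerivedCategory.Faithful := by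
  let R : CommRingCat.{u} := CommRingCat.of (KoszOrthLib.AX U)
  haveI : PreservesFiniteLimits (tilde.functor R) := HensSchLib.tilde_preservesFiniteLimits _
  haveI : PreservesColimitsOfSize.{0, 0} (tilde.functor R) :=
    (tilde.adjunction (R := R)).leftAdjoint_preservesColimits
  let j := U.isoSpec.hom
  let e : (Spec R).Modules ⥤ U.Modules := Scheme.Modules.restrictFunctor j
  have hq : ∀ M : ModuleCat.{u} R, QC U (e.obj ((tilde.functor R).obj M)) := fun M => by
    haveI : Coh.IsQCoh ((tilde.functor R).obj M) := inferInstanceAs ((tilde.functor R).obj M).IsQuasicoherent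
    haveI := KFlatLib.isQCoh_pullback j ((tilde.functor R).obj M)
    exact QCohLib.isQCoh_of_iso ((Scheme.Modules.restrictFunctorIsoPullback j).app _).symm
  haveI he : e.IsEquivalence :=
    (CategoryTheory.Equivalence.mk (Scheme.Modules.restrictFunctor j) (Scheme.Modules.restrictFunctor U.isoSpec.inv)
      ((Scheme.Modules.restrictFunctorComp U.isoSpec.inv j).symm ≪≫ Scheme.Modules.restrictFunctorCongr U.isoSpec.inv_hom_id ≪≫
        Scheme.Modules.restrictFunctorId).symm
      ((Scheme.Modules.restrictFunctorComp j U.isoSpec.inv).symm ≪≫ Scheme.Modules.restrictFunctorCongr U.isoSpec.hom_inv_id ≪≫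
        Scheme.Modules.restrictFunctorId)).isEquivalence_functor
  let T : ModuleCat.{u} R ⥤ (QC U).FullSubcategory := ObjectProperty.lift _ (tilde.functor R ⋙ e) hq
  haveI : T.EssSurj := ⟨fun M => by
    let N := e.inv.obj M.obj
    haveI : Coh.IsQCoh M.obj := M.property
    haveI : Coh.IsQCoh N := by
      haveI := KFlatLib.isQCoh_pullback U.isoSpec.inv M.obj
      exact @QCohLib.isQCoh_of_iso _ _ _ ((Scheme.Modules.pullback U.isoSpec.inv).mapIso
        (e.asEquivalence.counitIso.app M.obj).symm ≪≫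
        (Functor.isoWhiskerLeft _ (Scheme.Modules.restrictFunctorIsoPullback U.isoSpec.inv).symm).app _ ≪≫
        (Scheme.Modules.restrictFunctorComp U.isoSpec.inv j).symm.app N ≪≫
        (Scheme.Modules.restrictFunctorCongr U.isoSpec.inv_hom_id).app N ≪≫
        Scheme.Modules.restrictFunctorId.app N) this
    have hN : (tilde.functor R).essImage N := by rw [essImage_tilde]; exact ‹Coh.IsQCoh N›
    exact ⟨hN.witness, ⟨ObjectProperty.isoMk _ (e.mapIso hN.getIso ≪≫ e.asEquivalence.counitIso.app M.obj)⟩⟩⟩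
  haveI : T.IsEquivalence := {}
  haveI : PreservesFiniteLimits e := inferInstance
  haveI : PreservesFiniteColimits e := inferInstance
  let T' := T.inv
  haveI : T.Additive := ⟨fun {X Y f g} => ObjectProperty.hom_ext _ ((tilde.functor R ⋙ e).map_add)⟩
  haveI : T.asEquivalence.functor.Additive := inferInstanceAs T.Additive
  haveI : T'.Additive := inferInstanceAs T.asEquivalence.inverse.Additive
  haveI := IndCohLib.ModelChange.isEquivalence_mapDerived T T' T.asEquivalence.unitIso.symm T.asEquivalence.counitIso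
  obtain ⟨eD, -⟩ := exists_squareD (F := T) (G := (QC U).ι) (F' := tilde.functor R) (G' := e) (Iso.refl _)
  haveI h1 : (T.mapDerivedCategory ⋙ (QC U).ι.mapDerivedCategory).Full :=
    haveI : ((tilde.functor R).mapDerivedCategory ⋙ e.mapDerivedCategory).Full :=
      inferInstanceAs (KoszOrthLib.tX U).Full
    Functor.Full.of_iso eD.symm
  haveI h2 : (T.mapDerivedCategory ⋙ (QC U).ι.mapDerivedCategory).Faithful :=
    haveI : ((tilde.functor R).mapDerivedCategory ⋙ e.mapDerivedCategory).Faithful :=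
      inferInstanceAs (KoszOrthLib.tX U).Faithful
    Functor.Faithful.of_iso eD.symm
  let k : (QC U).ι.mapDerivedCategory ≅ T.mapDerivedCategory.inv ⋙ (T.mapDerivedCategory ⋙ (QC U).ι.mapDerivedCategory) :=
    (Functor.leftUnitor _).symm ≪≫ Functor.isoWhiskerRight T.mapDerivedCategory.asEquivalence.counitIso.symm _ ≪≫
      Functor.associator _ _ _
  exact ⟨Functor.Full.of_iso k.symm, Functor.Faithful.of_iso k.symm⟩

end Affine

/-- The functor on derived categories of an exact faithful functor reflects isomorphisms. -/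
theorem isIso_of_map {X : Scheme.{u}} (q : DerivedCategory (QC X).FullSubcategory ⥤ DCoh.D X)
    {A B : DerivedCategory (QC X).FullSubcategory} (φ : A ⟶ B) (h : IsIso (q.map φ))
    (hq : q = (QC X).ι.mapDerivedCategory := by rfl) : IsIso φ := by
  subst hq
  rw [DerivedCategory.isIso_iff]
  intro n
  haveI := h
  have e := NatIso.naturality_2 (DerLib.ExactHomology.homologyIso (QC X).ι n) φ
  haveI : IsIso ((QC X).ι.map ((DerivedCategory.homologyFunctor (QC X).FullSubcategory n).map φ)) := by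
    have h' : IsIso ((DerLib.ExactHomology.homologyIso (QC X).ι n).hom.app A ≫
        (DerivedCategory.homologyFunctor (QC X).FullSubcategory n ⋙ (QC X).ι).map φ ≫
          (DerLib.ExactHomology.homologyIso (QC X).ι n).inv.app B) := by
      rw [e]
      exact Functor.map_isIso (DerivedCategory.homologyFunctor X.Modules n) _
    haveI := h'
    haveI := IsIso.of_isIso_comp_left ((DerLib.ExactHomology.homologyIso (QC X).ι n).hom.app A)
      ((DerivedCategory.homologyFunctor (QC X).FullSubcategory n ⋙ (QC X).ι).map φ ≫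
        (DerLib.ExactHomology.homologyIso (QC X).ι n).inv.app B)
    exact IsIso.of_isIso_comp_right ((DerivedCategory.homologyFunctor (QC X).FullSubcategory n ⋙ (QC X).ι).map φ)
      ((DerLib.ExactHomology.homologyIso (QC X).ι n).inv.app B)
  exact isIso_of_fully_faithful (QC X).ι _

section Glue

variable {X : Scheme.{u}}

/-- The objects of `D(O_X)` coming from `D(QCoh(X))` fully faithfully. -/
def Good (Z : DCoh.D X) : Prop :=
  ∃ G : DerivedCategory (QC X).FullSubcategory, Nonempty ((QC X).ι.mapDerivedCategory.obj G ≅ Z) ∧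
    ∀ A : DerivedCategory (QC X).FullSubcategory,
      Function.Bijective fun φ : A ⟶ G => (QC X).ι.mapDerivedCategory.map φ

theorem Good.of_iso {Z Z' : DCoh.D X} (e : Z ≅ Z') (h : Good Z) : Good Z' :=
  let ⟨G, ⟨i⟩, hG⟩ := h
  ⟨G, ⟨i ≪≫ e⟩, hG⟩

theorem Good.shift {Z : DCoh.D X} (h : Good Z) (n : ℤ) : Good (Z⟦n⟧) := by
  obtain ⟨G, ⟨i⟩, hG⟩ := h
  let q := (QC X).ι.mapDerivedCategory
  refine ⟨G⟦n⟧, ⟨(q.commShiftIso n).app G ≪≫ (shiftFunctor _ n).mapIso i⟩, fun A => ?_⟩
  let e : A ≅ (A⟦-n⟧)⟦n⟧ := (shiftNegShift A n).symm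
  refine ⟨fun a b hab => ?_, fun ψ => ?_⟩
  · obtain ⟨a', ha⟩ := (shiftFunctor _ n).map_surjective (e.inv ≫ a)
    obtain ⟨b', hb⟩ := (shiftFunctor _ n).map_surjective (e.inv ≫ b)
    have h : q.map (e.inv ≫ a) = q.map (e.inv ≫ b) :=
      (q.map_comp _ _).trans ((congrArg (_ ≫ ·) hab).trans (q.map_comp _ _).symm)
    rw [← ha, ← hb] at h
    have h' : (q.map a')⟦n⟧' = (q.map b')⟦n⟧' := by
      rw [← cancel_epi ((q.commShiftIso n).hom.app _)]
      exact ((q.commShiftIso n).hom.naturality a').symm.trans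
        ((congrArg (· ≫ _) h).trans ((q.commShiftIso n).hom.naturality b'))
    rw [← cancel_epi e.inv, ← ha, ← hb, (hG _).1 ((shiftFunctor _ n).map_injective h')]
  · obtain ⟨χ, hχ⟩ := (shiftFunctor _ n).map_surjective
      ((q.commShiftIso n).inv.app _ ≫ q.map e.inv ≫ ψ ≫ (q.commShiftIso n).hom.app G)
    obtain ⟨a, ha⟩ := (hG _).2 χ
    refine ⟨e.hom ≫ a⟦n⟧', ?_⟩
    have h := (q.commShiftIso n).hom.naturality a
    simp only [Functor.comp_map] at h
    rw [show q.map a = χ from ha, hχ, ← Category.assoc, Iso.hom_inv_id_app, Category.id_comp] at h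
    rw [← cancel_mono ((q.commShiftIso n).hom.app G)]
    change q.map (e.hom ≫ a⟦n⟧') ≫ _ = ψ ≫ _
    rw [Functor.map_comp, Category.assoc, h, ← Functor.map_comp_assoc, Iso.hom_inv_id,
      CategoryTheory.Functor.map_id, Category.id_comp]

theorem good_of_isZero {Z : DCoh.D X} (h : IsZero Z) : Good Z :=
  ⟨0, ⟨((QC X).ι.mapDerivedCategory.map_isZero (isZero_zero _)).iso h⟩, fun _ =>
    ⟨fun a b _ => (isZero_zero _).eq_of_tgt a b, fun ψ => ⟨0,
      ((QC X).ι.mapDerivedCategory.map_isZero (isZero_zero _)).eq_of_tgt _ _⟩⟩⟩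

theorem Good.biprod {Z Z' : DCoh.D X} (h : Good Z) (h' : Good Z') : Good (Z ⊞ Z') := by
  obtain ⟨G, ⟨i⟩, hG⟩ := h
  obtain ⟨G', ⟨i'⟩, hG'⟩ := h'
  let q := (QC X).ι.mapDerivedCategory
  haveI : PreservesBinaryBiproducts q :=
    haveI : PreservesFiniteBiproducts q := Functor.preservesFiniteBiproductsOfAdditive _
    preservesBinaryBiproducts_of_preservesBiproducts _
  refine ⟨G ⊞ G', ⟨q.mapBiprod G G' ≪≫ biprod.mapIso i i'⟩, fun A => ⟨fun a b hab => ?_, fun ψ => ?_⟩⟩
  · refine biprod.hom_ext a b ((hG A).1 ?_) ((hG' A).1 ?_) <;>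
      exact (q.map_comp _ _).trans ((congrArg (· ≫ _) hab).trans (q.map_comp _ _).symm)
  · obtain ⟨a, ha⟩ := (hG A).2 (ψ ≫ q.map biprod.fst)
    obtain ⟨b, hb⟩ := (hG' A).2 (ψ ≫ q.map biprod.snd)
    refine ⟨biprod.lift a b, ?_⟩
    rw [← cancel_mono (q.mapBiprod G G').hom]
    change q.map _ ≫ _ = _
    apply biprod.hom_ext <;> simp [← Functor.map_comp] <;> assumption

theorem Good.obj₃ (T : Triangle (DCoh.D X)) (hT : T ∈ distTriang _) (h₁ : Good T.obj₁) (h₂ : Good T.obj₂) :
    Good T.obj₃ := by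
  obtain ⟨G₁, ⟨i₁⟩, hG₁⟩ := h₁
  obtain ⟨G₂, ⟨i₂⟩, hG₂⟩ := h₂
  let q := (QC X).ι.mapDerivedCategory
  obtain ⟨f, hf⟩ := (hG₂ G₁).2 (i₁.hom ≫ T.mor₁ ≫ i₂.inv)
  change q.map f = _ at hf
  obtain ⟨G₃, g, h, hD⟩ := distinguished_cocone_triangle f
  obtain ⟨i₃, -, -⟩ := exists_iso_of_arrow_iso (q.mapTriangle.obj (Triangle.mk f g h)) T
    (q.map_distinguished _ hD) hT (Arrow.isoMk i₁ i₂ (by
      change i₁.hom ≫ T.mor₁ = q.map f ≫ i₂.hom
      rw [hf, Category.assoc, Category.assoc, Iso.inv_hom_id, Category.comp_id]))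
  refine ⟨G₃, ⟨Triangle.π₃.mapIso i₃⟩, fun A => ?_⟩
  have hs : ∀ {G : DerivedCategory (QC X).FullSubcategory}, (∀ A, Function.Bijective fun φ : A ⟶ G => q.map φ) →
      ∀ (n : ℤ) (A : DerivedCategory (QC X).FullSubcategory), Function.Bijective fun φ : A ⟶ G⟦n⟧ => q.map φ := by
    intro G hG n A
    obtain ⟨G', ⟨i⟩, hG'⟩ := (Good.shift (Z := q.obj G) ⟨G, ⟨Iso.refl _⟩, hG⟩ n)
    obtain ⟨u, hu⟩ := (hG' (G⟦n⟧)).2 ((q.commShiftIso n).hom.app G ≫ i.inv)
    change q.map u = _ at hu
    haveI : IsIso (q.map u) := by rw [hu]; infer_instance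
    haveI := isIso_of_map q u inferInstance
    refine ⟨fun a b hab => (cancel_mono u).1 ((hG' A).1 ((q.map_comp _ _).trans
      ((congrArg (· ≫ _) hab).trans (q.map_comp _ _).symm))), fun ψ => ?_⟩
    obtain ⟨a, ha⟩ := (hG' A).2 (ψ ≫ q.map u)
    exact ⟨a ≫ inv u, (q.map_comp _ _).trans ((congrArg (· ≫ _) ha).trans ((Category.assoc _ _ _).trans
      ((congrArg (ψ ≫ ·) ((q.map_comp _ _).symm.trans ((congrArg q.map (IsIso.hom_inv_id u)).trans
        (q.map_id _)))).trans (Category.comp_id _))))⟩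
  let D := q.mapTriangle.obj (Triangle.mk f g h)
  have hDT : D ∈ distTriang _ := q.map_distinguished _ hD
  refine ⟨fun a b hab => sub_eq_zero.1 ?_, fun ψ => ?_⟩
  · have h0 : q.map (a - b) = 0 := by rw [Functor.map_sub]; exact sub_eq_zero.2 hab
    have h1 : (a - b) ≫ h = 0 := (hs hG₁ 1 A).1 ((q.map_comp _ _).trans
      ((congrArg (· ≫ _) h0).trans (zero_comp.trans (q.map_zero _ _).symm)))
    obtain ⟨y, hy⟩ := Triangle.coyoneda_exact₃ _ hD (a - b) h1
    change a - b = y ≫ g at hy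
    have h2 : q.map y ≫ D.mor₂ = 0 := ((q.map_comp _ _).symm.trans (congrArg q.map hy.symm)).trans h0
    obtain ⟨x, hx⟩ := Triangle.coyoneda_exact₂ _ hDT (q.map y) h2
    obtain ⟨x', hx'⟩ := (hG₁ A).2 x
    change q.map x' = x at hx'
    have h3 : y = x' ≫ f := (hG₂ A).1 (hx.trans ((congrArg (· ≫ D.mor₁) hx'.symm).trans (q.map_comp _ _).symm))
    rw [hy, h3, Category.assoc, show f ≫ g = 0 from comp_distTriang_mor_zero₁₂ _ hD, comp_zero]
  · obtain ⟨w, hw⟩ := (hs hG₁ 1 A).2 (ψ ≫ q.map h)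
    change q.map w = _ at hw
    have h1 : w ≫ f⟦(1 : ℤ)⟧' = 0 := (hs hG₂ 1 A).1 (by
      refine (q.map_comp _ _).trans ?_
      rw [hw, Category.assoc, ← Functor.map_comp, show h ≫ f⟦(1 : ℤ)⟧' = 0 from comp_distTriang_mor_zero₃₁ _ hD,
        Functor.map_zero, comp_zero]
      exact (q.map_zero _ _).symm)
    obtain ⟨(φ₀ : A ⟶ G₃), hφ₀⟩ := Triangle.coyoneda_exact₁ _ hD w h1
    change w = φ₀ ≫ h at hφ₀
    have h2 : (ψ - q.map φ₀) ≫ q.map h = 0 := by
      rw [Preadditive.sub_comp, ← hw, hφ₀, Functor.map_comp, sub_self]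
    have h2' : (ψ - q.map φ₀) ≫ D.mor₃ = 0 := by
      change (ψ - q.map φ₀) ≫ q.map h ≫ _ = 0
      rw [reassoc_of% h2, zero_comp]
    obtain ⟨y, hy⟩ := Triangle.coyoneda_exact₃ _ hDT (ψ - q.map φ₀) h2'
    obtain ⟨y', hy'⟩ := (hG₂ A).2 y
    refine ⟨φ₀ + y' ≫ g, ?_⟩
    change q.map (φ₀ + y' ≫ g) = ψ
    rw [Functor.map_add, Functor.map_comp, show q.map y' = y from hy']
    have hy₂ : ψ - q.map φ₀ = y ≫ q.map g := hy
    rw [← hy₂]
    exact add_sub_cancel _ _

variable (hdiag : ∀ U V : X.Opens, IsAffineOpen U → IsAffineOpen V → IsAffineOpen (U ⊓ V))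

include hdiag in
/-- The inclusion of an affine open is an affine morphism. -/
theorem isAffineHom_ι {U : X.Opens} (hU : IsAffineOpen U) : IsAffineHom U.ι :=
  ⟨fun V hV => by
    rw [← U.ι.isAffineOpen_iff_of_isOpenImmersion, DCohRestrLib.image_preimage_eq_inf]
    exact hdiag U V hU hV⟩

include hdiag in
/-- Direct images from affine opens are good. -/
theorem good_rpush_affine {U : X.Opens} (hU : IsAffineOpen U) [DCoh.HasRpush U.ι]
    (L : DCoh.D (U : Scheme.{u})) (hL : DCoh.IsQCohD L) : Good ((DCoh.Rpush U.ι).obj L) := by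
  haveI : IsAffine (U : Scheme.{u}) := hU
  haveI := isAffineHom_ι hdiag hU
  let j := U.ι
  let W : Scheme.{u} := U
  let g' : (QC X).FullSubcategory ⥤ (QC W).FullSubcategory :=
    ObjectProperty.lift _ ((QC X).ι ⋙ Scheme.Modules.restrictFunctor j) fun M =>
      haveI : Coh.IsQCoh M.obj := M.property
      @QCohLib.isQCoh_of_iso _ _ _ ((Scheme.Modules.restrictFunctorIsoPullback j).app M.obj).symm
        (KFlatLib.isQCoh_pullback j M.obj)
  let p' : (QC W).FullSubcategory ⥤ (QC X).FullSubcategory :=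
    ObjectProperty.lift _ ((QC W).ι ⋙ Scheme.Modules.pushforward j) fun M =>
      haveI : Coh.IsQCoh M.obj := M.property
      QCohLib.isQCoh_pushforward j M.obj
  let adj := Scheme.Modules.restrictAdjunction j
  let adj' : g' ⊣ p' := adj.restrictFullyFaithful
    (ObjectProperty.fullyFaithfulι (QC X)) (ObjectProperty.fullyFaithfulι (QC W)) (Iso.refl _) (Iso.refl _)
  haveI : g'.Additive := ⟨fun {A B f g} => ObjectProperty.hom_ext _ ((Scheme.Modules.restrictFunctor j).map_add)⟩
  haveI : p'.Additive := adj'.right_adjoint_additive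
  obtain ⟨hg₁, hg₂⟩ := exact_of_comp g' (QC W).ι fun S hS =>
    (hS.map_of_exact (QC X).ι).map_of_exact (Scheme.Modules.restrictFunctor j)
  obtain ⟨hp₁, hp₂⟩ := exact_of_comp p' (QC X).ι fun S hS => by
    have hS' := hS.map_of_exact (QC W).ι
    haveI : Coh.IsQCoh (S.map (QC W).ι).X₁ := S.X₁.property
    haveI : Coh.IsQCoh (S.map (QC W).ι).X₂ := S.X₂.property
    haveI : Coh.IsQCoh (S.map (QC W).ι).X₃ := S.X₃.property
    haveI := hS'.mono_f
    haveI := hS'.epi_g
    haveI : PreservesLimitsOfSize.{0, 0} (Scheme.Modules.pushforward j) :=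
      (Scheme.Modules.pullbackPushforwardAdjunction j).rightAdjoint_preservesLimits
    haveI : PreservesFiniteLimits (Scheme.Modules.pushforward j) := PreservesLimitsOfSize.preservesFiniteLimits _
    have hepi := TwistAffLib.epi_push_affine j (S.map (QC W).ι).g
    haveI : Mono ((S.map (QC W).ι).map (Scheme.Modules.pushforward j)).f :=
      inferInstanceAs (Mono ((Scheme.Modules.pushforward j).map (S.map (QC W).ι).f))
    exact ShortComplex.ShortExact.mk' (S := (S.map (QC W).ι).map (Scheme.Modules.pushforward j))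
      (hS'.exact.map_of_mono_of_preservesKernel _ inferInstance inferInstance)
      inferInstance hepi
  haveI := hg₁; haveI := hg₂; haveI := hp₁; haveI := hp₂
  obtain ⟨hF₁, hF₂⟩ := exists_affine (U := W)
  haveI := hF₁; haveI := hF₂
  obtain ⟨M, ⟨eM⟩⟩ := KoszOrthLib.exists_tX_iso hL
  obtain ⟨B, ⟨eB⟩⟩ : ∃ B : DerivedCategory (QC W).FullSubcategory,
      Nonempty ((QC W).ι.mapDerivedCategory.obj B ≅ L) := by
    let R : CommRingCat.{u} := CommRingCat.of (KoszOrthLib.AX W)
    haveI : PreservesFiniteLimits (tilde.functor R) := HensSchLib.tilde_preservesFiniteLimits _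
    haveI : PreservesColimitsOfSize.{0, 0} (tilde.functor R) :=
      (tilde.adjunction (R := R)).leftAdjoint_preservesColimits
    let e : (Spec R).Modules ⥤ W.Modules := Scheme.Modules.restrictFunctor W.isoSpec.hom
    let T : ModuleCat.{u} R ⥤ (QC W).FullSubcategory := ObjectProperty.lift _ (tilde.functor R ⋙ e) fun N => by
      haveI : Coh.IsQCoh ((tilde.functor R).obj N) := inferInstanceAs ((tilde.functor R).obj N).IsQuasicoherent
      haveI := KFlatLib.isQCoh_pullback W.isoSpec.hom ((tilde.functor R).obj N)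
      exact QCohLib.isQCoh_of_iso ((Scheme.Modules.restrictFunctorIsoPullback W.isoSpec.hom).app _).symm
    haveI : T.Additive := ⟨fun {A B f g} => ObjectProperty.hom_ext _ ((tilde.functor R ⋙ e).map_add)⟩
    obtain ⟨hT₁, hT₂⟩ := exact_of_comp T (QC W).ι fun S hS =>
      (hS.map_of_exact (tilde.functor R)).map_of_exact e
    haveI := hT₁; haveI := hT₂
    obtain ⟨eD, -⟩ := exists_squareD (F := T) (G := (QC W).ι) (F' := tilde.functor R) (G' := e) (Iso.refl _)
    exact ⟨T.mapDerivedCategory.obj M, ⟨eD.app M ≪≫ eM⟩⟩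
  obtain ⟨G, ⟨eG⟩, hG⟩ := exists_push (iX := (QC X).ι) (iU := (QC W).ι) adj adj' (Iso.refl _) (Iso.refl _)
    (fun M => by
      have h := Adjunction.map_restrictFullyFaithful_counit_app adj (ObjectProperty.fullyFaithfulι (QC X))
        (ObjectProperty.fullyFaithfulι (QC W)) (L := g') (R := p') (Iso.refl _) (Iso.refl _) M
      refine Eq.trans ?_ (congrArg (_ ≫ ·) h).symm
      simp
      erw [Category.id_comp, Category.id_comp, CategoryTheory.Functor.map_id, Category.id_comp])
    (DCoh.Rpush j) (QRlimLib.rpushUnit j) KFlatLib.enoughKInj_modules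
    (fun C => QRlimLib.isIso_rpushUnit j _ (fun n => (C.X n).property) fun n i hi =>
      @TildeDerLib.isZero_Rpush_affine _ _ j _ _ _ (C.X n).property i hi) B
  exact ⟨G, ⟨eG ≪≫ (DCoh.Rpush j).mapIso eB⟩, hG⟩

theorem Good.obj₁ (T : Triangle (DCoh.D X)) (hT : T ∈ distTriang _) (h₂ : Good T.obj₂) (h₃ : Good T.obj₃) :
    Good T.obj₁ :=
  ((Good.obj₃ _ (rot_of_distTriang _ hT) h₂ h₃).shift (-1)).of_iso (shiftShiftNeg T.obj₁ (1 : ℤ))

/-- All direct images of quasi-coherent objects from an open are good. -/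
def GoodOpen (W : X.Opens) : Prop :=
  ∀ (L : DCoh.D (W : Scheme.{u})), DCoh.IsQCohD L →
    haveI := DCohRestrLib.hasRpush W.ι
    Good ((DCoh.Rpush W.ι).obj L)

theorem GoodOpen.good {Z : Scheme.{u}} (j : Z ⟶ X) [IsOpenImmersion j] [DCoh.HasRpush j]
    (h : GoodOpen j.opensRange) (L : DCoh.D Z) (hL : DCoh.IsQCohD L) : Good ((DCoh.Rpush j).obj L) := by
  let e := j.isoOpensRange.hom
  haveI := DCohRestrLib.hasRpush j.opensRange.ι
  haveI := DCohRestrLib.hasRpush e
  haveI := DCohRestrLib.hasRpush (e ≫ j.opensRange.ι)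
  haveI := KFlatLib.hasLpull j.opensRange.ι
  haveI := KFlatLib.hasLpull e
  haveI := KFlatLib.hasLpull (e ≫ j.opensRange.ι)
  obtain ⟨i⟩ := KFlatLib.rpush_comp e j.opensRange.ι
  have key : ∀ (k : Z ⟶ X) (_ : k = j) [DCoh.HasRpush k],
      Nonempty (DCoh.Rpush k ≅ DCoh.Rpush j) := by
    intro k hk _
    subst hk
    exact ⟨Iso.refl _⟩
  obtain ⟨i'⟩ := key (e ≫ j.opensRange.ι) (Scheme.Hom.isoOpensRange_hom_ι j)
  exact (h ((DCoh.Rpush e).obj L) (QRlimLib.isQCohD_rpush e hL)).of_iso ((i ≪≫ i').app L)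

theorem goodOpen_sup {V W' : X.Opens} (hV : GoodOpen V) (hW : GoodOpen W') (hVW : GoodOpen (V ⊓ W')) :
    GoodOpen (V ⊔ W') := by
  intro L hL
  let W := V ⊔ W'
  haveI := DCohRestrLib.hasRpush W.ι
  let a : (W : Scheme.{u}).Opens := W.ι ⁻¹ᵁ V
  let b : (W : Scheme.{u}).Opens := W.ι ⁻¹ᵁ W'
  have ha : W.ι ''ᵁ a = V := by
    rw [DCohRestrLib.image_preimage_eq_inf]; exact inf_eq_right.2 le_sup_left
  have hb : W.ι ''ᵁ b = W' := by
    rw [DCohRestrLib.image_preimage_eq_inf]; exact inf_eq_right.2 le_sup_right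
  have hab : W.ι ''ᵁ (a ⊓ b) = V ⊓ W' := by
    rw [show a ⊓ b = W.ι ⁻¹ᵁ (V ⊓ W') from rfl, DCohRestrLib.image_preimage_eq_inf]
    exact inf_eq_right.2 (inf_le_left.trans le_sup_left)
  have hcov : a ⊔ b = ⊤ := (show a ⊔ b = W.ι ⁻¹ᵁ W from rfl).trans W.ι_preimage_self
  haveI := DCohRestrLib.hasRpush a.ι
  haveI := DCohRestrLib.hasRpush b.ι
  haveI := DCohRestrLib.hasRpush (a ⊓ b).ι
  obtain ⟨T, hT, ⟨e₁⟩, ⟨e₂⟩, ⟨e₃⟩⟩ := DCohRestrLib.exists_mv_push (U := a) (V := b) (hUV := hcov) (E := L)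
  obtain ⟨cs, tri⟩ := QRlimLib.exists_isTriangulated_rpush W.ι
  have piece : ∀ (c : (W : Scheme.{u}).Opens) [DCoh.HasRpush c.ι], GoodOpen (W.ι ''ᵁ c) →
      Good ((DCoh.Rpush W.ι).obj ((DCoh.Rpush c.ι).obj ((DCoh.restrictD c.ι).obj L))) := by
    intro c _ hc
    haveI := DCohRestrLib.hasRpush (c.ι ≫ W.ι)
    haveI := KFlatLib.hasLpull W.ι
    haveI := KFlatLib.hasLpull c.ι
    haveI := KFlatLib.hasLpull (c.ι ≫ W.ι)
    obtain ⟨i⟩ := KFlatLib.rpush_comp c.ι W.ι
    refine (GoodOpen.good (c.ι ≫ W.ι) ?_ _ (KoszOrthLib.isQCohD_restrictD c.ι hL)).of_iso (i.app _).symm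
    rwa [Scheme.Hom.opensRange_comp, Scheme.Opens.opensRange_ι]
  haveI : PreservesBinaryBiproducts (DCoh.Rpush W.ι) :=
    haveI : PreservesFiniteBiproducts (DCoh.Rpush W.ι) := Functor.preservesFiniteBiproductsOfAdditive _
    preservesBinaryBiproducts_of_preservesBiproducts _
  exact (Good.obj₁ _ ((DCoh.Rpush W.ι).map_distinguished T hT)
    ((Good.biprod (piece a ((congrArg GoodOpen ha).mpr hV)) (piece b ((congrArg GoodOpen hb).mpr hW))).of_iso
      (((DCoh.Rpush W.ι).mapBiprod _ _).symm ≪≫ (DCoh.Rpush W.ι).mapIso e₂.symm))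
    ((piece (a ⊓ b) ((congrArg GoodOpen hab).mpr hVW)).of_iso ((DCoh.Rpush W.ι).mapIso e₃.symm))).of_iso
      ((DCoh.Rpush W.ι).mapIso e₁)

include hdiag in
theorem goodOpen_sup_finset : ∀ (n : ℕ) (s : Finset X.affineOpens), s.card ≤ n →
    GoodOpen (s.sup fun V => V.1) := by
  classical
  intro n
  induction n with
  | zero =>
    intro s hs
    obtain rfl : s = ∅ := Finset.card_eq_zero.1 (Nat.le_zero.1 hs)
    rw [Finset.sup_empty]
    intro L hL
    haveI := DCohRestrLib.hasRpush (⊥ : X.Opens).ι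
    exact good_rpush_affine hdiag (isAffineOpen_bot X) L hL
  | succ n ih =>
    intro s hs
    rcases s.eq_empty_or_nonempty with rfl | ⟨V, hV⟩
    · exact ih ∅ (Nat.zero_le _)
    have hc : (s.erase V).card ≤ n := by rw [Finset.card_erase_of_mem hV]; omega
    rw [← Finset.insert_erase hV, Finset.sup_insert]
    refine goodOpen_sup (fun L hL => haveI := DCohRestrLib.hasRpush V.1.ι; good_rpush_affine hdiag V.2 L hL) (ih _ hc) ?_
    rw [Finset.sup_inf_distrib_left]
    have h := ih ((s.erase V).image fun V' => ⟨V.1 ⊓ V'.1, hdiag _ _ V.2 V'.2⟩) (Finset.card_image_le.trans hc)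
    rw [Finset.sup_image] at h
    exact h

/-- Goodness of all finite unions of affines gives the equivalence. -/
theorem main_of_goodOpen [CompactSpace X]
    (hgood : ∀ (n : ℕ) (s : Finset X.affineOpens), s.card ≤ n → GoodOpen (s.sup fun V => V.1)) :
    (QC X).ι.mapDerivedCategory.Full ∧ (QC X).ι.mapDerivedCategory.Faithful ∧
      ∀ K : DCoh.D X, DCoh.IsQCohD K ↔ ∃ M, Nonempty ((QC X).ι.mapDerivedCategory.obj M ≅ K) := by
  classical
  let q := (QC X).ι.mapDerivedCategory
  have hq : ∀ M, DCoh.IsQCohD (q.obj M) := fun M => by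
    let C := DerivedCategory.Q.objPreimage M
    refine KFlatLib.isQCohD_iso (q.mapIso (DerivedCategory.Q.objObjPreimageIso M).symm ≪≫
      (QC X).ι.mapDerivedCategoryFactors.app C).symm fun i => ?_
    exact @QCohLib.isQCoh_of_iso _ _ _ ((DerivedCategory.homologyFunctorFactors X.Modules i).app _).symm
      (KFlatLib.isQCoh_homology_of_terms _ (fun n => (C.X n).property) i)
  have hall : ∀ K : DCoh.D X, DCoh.IsQCohD K → Good K := by
    intro K hK
    obtain ⟨s, hs⟩ := isCompact_univ.elim_finite_subcover (fun V : X.affineOpens => (V.1 : Set X))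
      (fun V => V.1.isOpen) (fun p _ => by
        obtain ⟨V, hV, hp, -⟩ := TopologicalSpace.Opens.isBasis_iff_nbhd.mp X.isBasis_affineOpens (U := ⊤) (x := p) trivial
        exact Set.mem_iUnion.mpr ⟨⟨V, hV⟩, hp⟩)
    let W := s.sup (fun V : X.affineOpens => V.1)
    have hW : W = ⊤ := eq_top_iff.2 fun p _ => by
      obtain ⟨V, hV, hp⟩ := Set.mem_iUnion₂.mp (hs (Set.mem_univ p))
      exact Finset.le_sup (f := fun V : X.affineOpens => V.1) hV hp
    haveI := DCohRestrLib.hasRpush W.ι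
    refine Good.of_iso ?_ (hgood s.card s le_rfl ((DCoh.restrictD W.ι).obj K) (KoszOrthLib.isQCohD_restrictD _ hK))
    haveI : Surjective W.ι := ⟨fun x => ⟨⟨x, hW ▸ trivial⟩, rfl⟩⟩
    haveI : IsIso W.ι := (isIso_iff_isOpenImmersion_and_surjective _).2 ⟨inferInstance, inferInstance⟩
    haveI := KoszOrthLib.isIso_unit_restrictRpushAdj W.ι K
    exact (@asIso _ _ _ _ ((KoszOrthLib.restrictRpushAdj W.ι).unit.app K) this).symm
  have hbij : ∀ A M : DerivedCategory (QC X).FullSubcategory, Function.Bijective fun φ : A ⟶ M => q.map φ := by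
    intro A M
    obtain ⟨G, ⟨i⟩, hG⟩ := hall (q.obj M) (hq M)
    obtain ⟨φ, hφ⟩ := (hG M).2 i.inv
    change q.map φ = i.inv at hφ
    haveI : IsIso φ := isIso_of_map q φ (by rw [hφ]; infer_instance)
    refine ⟨fun a b hab => (cancel_mono φ).1 ((hG A).1 ((q.map_comp _ _).trans
      ((congrArg (· ≫ _) hab).trans (q.map_comp _ _).symm))), fun ψ => ?_⟩
    obtain ⟨a, ha⟩ := (hG A).2 (ψ ≫ q.map φ)
    refine ⟨a ≫ inv φ, ?_⟩
    exact (q.map_comp _ _).trans ((congrArg (· ≫ _) ha).trans ((Category.assoc _ _ _).trans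
      ((congrArg (ψ ≫ ·) ((q.map_comp _ _).symm.trans ((congrArg q.map (IsIso.hom_inv_id φ)).trans
        (q.map_id _)))).trans (Category.comp_id _))))
  exact ⟨⟨fun {A B} => (hbij A B).2⟩, ⟨fun {A B} => (hbij A B).1⟩, fun K =>
    ⟨fun hK => (hall K hK).imp fun _ h => h.1, fun ⟨M, ⟨e⟩⟩ => KFlatLib.isQCohD_iso e (hq M)⟩⟩

include hdiag in
/-- `D(QCoh(X)) ⟶ D_QCoh(X)` is fully faithful and essentially surjective. -/
theorem main [CompactSpace X] :
    (QC X).ι.mapDerivedCategory.Full ∧ (QC X).ι.mapDerivedCategory.Faithful ∧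
      ∀ K : DCoh.D X, DCoh.IsQCohD K ↔ ∃ M, Nonempty ((QC X).ι.mapDerivedCategory.obj M ≅ K) :=
  main_of_goodOpen (goodOpen_sup_finset hdiag)

end Glue

end Groth.Agent.DQCohEquivLib
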